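import Cfsg.Agent.H989.Sims.Final
import Cfsg.Agent.H36.Sims.Isotypic

/-!
# `formsCore` (task 446, for S3386, the Sims conjecture)
-/

set_option autoImplicit false

namespace Cfsg.Agent.H989.Sims

open Cfsg.Agent.H851.Sims
open scoped commutatorElement

theorem formsCore_of (hI : IsoStmt) : FormsCore := by
  intro c K d
  refine ⟨2 * (K * K * (c + (d + d))) + d + 3, ?_⟩
  intro F V _ _ _ _ _ r _ _ D X hn hX hcop hK hCW
  have _ : Finite V := Module.finite_of_finite F
  have _ : Finite (V ≃ₗ[F] V) := Finite.of_injective (fun g : V ≃ₗ[F] V => (g : V → V)) DFunLike.coe_injective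
  let _ : Fintype X := Fintype.ofFinite X
  have h0 : (Nat.card X : F) ≠ 0 := by
    rw [Ne, CharP.cast_eq_zero_iff F r]
    intro h
    have h1 : r ∣ 1 := by
      rw [← hcop]
      exact Nat.dvd_gcd h dvd_rfl
    exact (Fact.out : r.Prime).one_lt.ne' (Nat.dvd_one.1 h1)
  obtain ⟨κ, hκ, hf, hσ⟩ := exists_kappa D (by omega)
  obtain ⟨M, hM, hMi, hMd⟩ := exists_TS hX h0 hCW
  obtain ⟨U, hU, hU0, hirr, e, heM, heX, hind⟩ := exists_iso hI h0 hK hMi (c + (d + d)) (by omega)
  obtain ⟨E, hE1, hE2, ⟨ι⟩⟩ := big_group (k := c) hX h0 hCW hκ hf hσ hM hU hU0 hirr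
    (e₁ := fun i => e (Fin.castAdd (d + d) i)) (e₂ := fun i => e (Fin.natAdd c (Fin.castAdd d i)))
    (e₃ := fun i => e (Fin.natAdd c (Fin.natAdd d i))) (fun i u => heM _ u) (fun i u => heM _ u) (fun i u => heM _ u)
    (fun i x u => heX _ x.1 x.2 u) (fun i x u => heX _ x.1 x.2 u) (fun i x u => heX _ x.1 x.2 u) (by
      intro a b b' h
      have h1 := hind (Fin.append a (Fin.append b b')) (by
        rw [Fin.sum_univ_add, Fin.sum_univ_add]
        simp only [Fin.append_left, Fin.append_right]
        rw [tot_apply, tot_apply, tot_apply] at h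
        rw [← add_assoc]
        exact h)
      refine ⟨funext fun i => ?_, funext fun i => ?_, funext fun i => ?_⟩
      · have h2 := congrFun h1 (Fin.castAdd (d + d) i)
        rwa [Fin.append_left] at h2
      · have h2 := congrFun h1 (Fin.natAdd c (Fin.castAdd d i))
        rwa [Fin.append_right, Fin.append_left] at h2
      · have h2 := congrFun h1 (Fin.natAdd c (Fin.natAdd d i))
        rwa [Fin.append_right, Fin.append_right] at h2)
  have hcard : Nat.card E = Nat.card F ^ c := by
    rw [← Nat.card_congr ι.toEquiv]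
    change Nat.card (Fin c → F) = _
    rw [Nat.card_fun, Nat.card_fin]
  refine ⟨E, hE1, hE2, ?_, ?_⟩
  · let _ : Fintype F := Fintype.ofFinite F
    obtain ⟨n, _, hn'⟩ := FiniteField.card F r
    refine IsPGroup.of_card (n := n * c) ?_
    rw [hcard, Nat.card_eq_fintype_card, hn', ← pow_mul]
  · rw [hcard]
    calc c < 2 ^ c := Nat.lt_two_pow_self
      _ ≤ Nat.card F ^ c := Nat.pow_le_pow_left Finite.one_lt_card c

/-- Task 446. -/
theorem formsCore : Cfsg.Agent.H851.Sims.FormsCore :=
  formsCore_of fun K m hK hdim => Cfsg.Agent.H36.Sims.exists_isotypic K m hK hdim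

end Cfsg.Agent.H989.Sims
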