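import Cfsg.Agent.H989.Sims.Base
import Cfsg.Agent.H989.Sims.Maschke

/-!
# `FormsCore` (for S3386, the Sims conjecture)

A small group of isometries of order prime to the characteristic centralises a big unipotent group inside the commutator
subgroup of the isometry group. The unipotent elements are averaged Siegel elements `1 + N(s, w)`.
-/

set_option autoImplicit false

namespace Cfsg.Agent.H989.Sims

open Cfsg.Agent.H851.Sims
open scoped commutatorElement

section Basic

variable {F V : Type} [Field F] [AddCommGroup V] [Module F V] {D : FormData F V} {X : Subgroup (V ≃ₗ[F] V)}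

/-- The invariant subspace generated by a vector. -/
def orb (X : Subgroup (V ≃ₗ[F] V)) (v : V) : Submodule F V := Submodule.span F {y | ∃ x ∈ X, y = x v}

theorem mem_orb' {x : V ≃ₗ[F] V} (hx : x ∈ X) (v : V) : x v ∈ orb X v := Submodule.subset_span ⟨x, hx, rfl⟩

theorem mem_orb (v : V) : v ∈ orb X v := mem_orb' X.one_mem v

theorem inv_orb (v : V) : Inv X (orb X v) := by
  intro x hx w hw
  induction hw using Submodule.span_induction with
  | mem w hw =>
    obtain ⟨y, hy, rfl⟩ := hw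
    exact mem_orb' (X.mul_mem hx hy) v
  | zero => rw [map_zero]; exact Submodule.zero_mem _
  | add a b _ _ ha hb => rw [map_add]; exact Submodule.add_mem _ ha hb
  | smul c a _ ha => rw [map_smul]; exact Submodule.smul_mem _ c ha

theorem orb_le {W : Submodule F V} (hW : Inv X W) {v : V} (hv : v ∈ W) : orb X v ≤ W := by
  rw [orb, Submodule.span_le]
  rintro _ ⟨x, hx, rfl⟩
  exact hW x hx v hv

theorem TS_orb {v : V} (h : ∀ x ∈ X, ∀ y ∈ X, D.f (x v) (y v) = 0 ∧ D.Q (x v) = 0) : TS D (orb X v) := by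
  have h1 : ∀ u ∈ orb X v, ∀ y ∈ X, D.f u (y v) = 0 := by
    intro u hu y hy
    induction hu using Submodule.span_induction with
    | mem w hw =>
      obtain ⟨x, hx, rfl⟩ := hw
      exact (h x hx y hy).1
    | zero => exact f_zero_left D _
    | add a b _ _ ha hb => rw [D.add_left, ha, hb, add_zero]
    | smul c a _ ha => rw [D.smul_left, ha, mul_zero]
  have h2 : ∀ u ∈ orb X v, ∀ w ∈ orb X v, D.f u w = 0 := by
    intro u hu w hw
    induction hw using Submodule.span_induction with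
    | mem w hw =>
      obtain ⟨x, hx, rfl⟩ := hw
      exact h1 u hu x hx
    | zero => exact f_zero_right D _
    | add a b _ _ ha hb => rw [D.add_right, ha, hb, add_zero]
    | smul c a _ ha => rw [D.smul_right, ha, mul_zero]
  refine ⟨h2, fun u hu => ?_⟩
  induction hu using Submodule.span_induction with
  | mem w hw =>
    obtain ⟨x, hx, rfl⟩ := hw
    exact (h x hx x hx).2
  | zero => exact Q_zero D
  | add a b ha' hb' ha hb => rw [D.Q_add, ha, hb, h2 a ha' b hb', map_zero, add_zero, add_zero]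
  | smul c a _ ha => exact D.Q_smul c a ha

theorem inv_perp (hX : X ≤ D.isom) {M : Submodule F V} (hM : Inv X M) : Inv X (perp D M) := by
  intro x hx v hv u hu
  have h1 : D.f (x v) (x (x⁻¹ u)) = D.f v (x⁻¹ u) := (hX hx).1 v (x⁻¹ u)
  have h2 : x (x⁻¹ u) = u := x.apply_symm_apply u
  rw [h2] at h1
  rw [h1]
  exact hv _ (hM _ (X.inv_mem hx) u hu)

theorem inv_sup {M N : Submodule F V} (hM : Inv X M) (hN : Inv X N) : Inv X (M ⊔ N) := by
  intro x hx v hv
  obtain ⟨a, ha, b, hb, rfl⟩ := Submodule.mem_sup.1 hv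
  rw [map_add]
  exact Submodule.add_mem_sup (hM x hx a ha) (hN x hx b hb)

theorem mem_perp_sup {M N : Submodule F V} {v : V} : v ∈ perp D (M ⊔ N) ↔ v ∈ perp D M ∧ v ∈ perp D N := by
  constructor
  · intro h
    exact ⟨perp_anti D le_sup_left h, perp_anti D le_sup_right h⟩
  · rintro ⟨h1, h2⟩ u hu
    obtain ⟨a, ha, b, hb, rfl⟩ := Submodule.mem_sup.1 hu
    rw [D.add_right, h1 a ha, h2 b hb, add_zero]

end Basic

section Main

variable {F V : Type} [Field F] [Finite F] [AddCommGroup V] [Module F V] [Module.Finite F V] {D : FormData F V}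
  {X : Subgroup (V ≃ₗ[F] V)} [Fintype X] (hX : X ≤ D.isom) (h0 : (Nat.card X : F) ≠ 0) {d : ℕ}
  (hCW : ∀ W : Submodule F V, (∀ x ∈ X, ∀ w ∈ W, x w ∈ W) → d ≤ Module.finrank F W →
      ∃ v ∈ W, v ≠ 0 ∧ ∀ x ∈ X, ∀ y ∈ X, D.f (x v) (y v) = 0 ∧ D.Q (x v) = 0)

include hX h0 hCW in
/-- A totally singular vector orthogonal to `Y` and in duality with `Z`. -/
theorem exists_dual {Y Z : Submodule F V} (hY : Inv X Y) (hZ : Inv X Z) (hYZ : Y ⊓ Z = ⊥)
    (hd : d ≤ Module.finrank F Z) :
    ∃ b, b ≠ 0 ∧ b ∈ perp D Y ∧ TS D (orb X b) ∧ orb X b ⊓ perp D (Y ⊔ Z) = ⊥ := by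
  obtain ⟨C, hCB, hC, hAC, hACB⟩ := exists_compl h0 (inv_perp hX (inv_sup hY hZ)) (inv_perp hX hY)
    (perp_anti D (le_sup_left (a := Y) (b := Z)))
  have h1 := Submodule.finrank_sup_add_finrank_inf_eq (perp D (Y ⊔ Z)) C
  rw [hAC, hACB, finrank_bot] at h1
  have h2 := Submodule.finrank_sup_add_finrank_inf_eq Y Z
  rw [hYZ, finrank_bot] at h2
  have h3 := finrank_perp D Y
  have h4 := finrank_perp D (Y ⊔ Z)
  obtain ⟨v, hvC, hv0, hv⟩ := hCW C hC (by omega)
  refine ⟨v, hv0, hCB hvC, TS_orb hv, ?_⟩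
  rw [eq_bot_iff, ← hAC]
  intro z hz
  exact ⟨hz.2, orb_le hC hvC hz.1⟩

include hX h0 hCW in
/-- A large totally singular invariant subspace. -/
theorem exists_TS : ∃ M : Submodule F V, TS D M ∧ Inv X M ∧ Module.finrank F V < 2 * Module.finrank F M + d + 1 := by
  obtain ⟨M, ⟨hM1, hM2⟩, hmax⟩ := WellFounded.has_min (wellFounded_gt (α := Submodule F V))
    {M | TS D M ∧ Inv X M} ⟨⊥, ⟨⟨by
      intro u hu v _
      rw [Submodule.mem_bot] at hu
      rw [hu, f_zero_left], by
      intro v hv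
      rw [Submodule.mem_bot] at hv
      rw [hv, Q_zero]⟩, by
      intro x _ w hw
      rw [Submodule.mem_bot] at hw ⊢
      rw [hw, map_zero]⟩⟩
  refine ⟨M, hM1, hM2, ?_⟩
  obtain ⟨C, hCB, hC, hAC, hACB⟩ := exists_compl h0 hM2 (inv_perp hX hM2) hM1.le_perp
  have h1 := Submodule.finrank_sup_add_finrank_inf_eq M C
  rw [hAC, hACB, finrank_bot] at h1
  have h3 := finrank_perp D M
  have h4 : ¬ d ≤ Module.finrank F C := by
    intro hd
    obtain ⟨v, hvC, hv0, hv⟩ := hCW C hC hd
    have h5 : TS D (M ⊔ orb X v) := hM1.sup D (TS_orb hv) fun u hu z hz =>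
      D.refl _ _ (hCB (orb_le hC hvC hz) u hu)
    apply hmax (M ⊔ orb X v) ⟨h5, inv_sup hM2 (inv_orb v)⟩
    refine lt_of_le_of_ne le_sup_left fun h => ?_
    apply hv0
    have h6 : v ∈ M := by
      rw [h]
      exact le_sup_right (a := M) (mem_orb v)
    have h7 : v ∈ M ⊓ C := ⟨h6, hvC⟩
    rw [hAC] at h7
    exact (Submodule.mem_bot _).1 h7
  omega

end Main

end Cfsg.Agent.H989.Sims
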