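import Cfsg.Agent.H989.Sims.Base
import Cfsg.Agent.H989.Sims.Maschke
import Mathlib.LinearAlgebra.Trace

/-!
# Averaged rank one operators, by traces

`U` an irreducible `X`-space with embeddings `e₂, e₃ : U → V`: the averaged operators `∑ₓ f(e₃ ·, x b) x p` on `U` are
not all killed by `f(e₂ ·, w)`.
-/

set_option autoImplicit false

namespace Cfsg.Agent.H989.Sims

open Cfsg.Agent.H851.Sims

section Tr

variable {F V : Type} [Field F] [AddCommGroup V] [Module F V] {D : FormData F V}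
  {X : Subgroup (V ≃ₗ[F] V)} [Fintype X] {U : Submodule F V} (hU : Inv X U)

/-- The action on an invariant subspace. -/
def act (x : X) (u : U) : U := ⟨x.1 u.1, hU x.1 x.2 u.1 u.2⟩

omit [Fintype X] in
theorem act_add (x : X) (u v : U) : act hU x (u + v) = act hU x u + act hU x v :=
  Subtype.ext (map_add x.1 u.1 v.1)

omit [Fintype X] in
theorem act_smul (x : X) (a : F) (u : U) : act hU x (a • u) = a • act hU x u :=
  Subtype.ext (map_smul x.1 a u.1)

variable {e : U →ₗ[F] V} (he : ∀ (x : X) (u : U), e (act hU x u) = x.1 (e u))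

variable (D) in
/-- The averaged operator `q ↦ ∑ₓ f(e q, x b) x p`. -/
noncomputable def avg (e : U →ₗ[F] V) (b : V) (p : U) : U →ₗ[F] U :=
  ∑ x : X, ((fL D (x.1 b)).comp e).smulRight (act hU x p)

theorem avg_apply (b : V) (p q : U) : avg D hU e b p q = ∑ x : X, D.f (e q) (x.1 b) • act hU x p := by
  rw [avg, LinearMap.sum_apply]
  rfl

include he in
theorem avg_comm (hX : X ≤ D.isom) (b : V) (p q : U) (y : X) :
    avg D hU e b p (act hU y q) = act hU y (avg D hU e b p q) := by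
  have h0 : act hU y (avg D hU e b p q) = ∑ x : X, D.f (e q) (x.1 b) • act hU y (act hU x p) := by
    rw [avg_apply]
    apply Subtype.ext
    change y.1 ((∑ x : X, D.f (e q) (x.1 b) • act hU x p : U) : V) = _
    rw [AddSubmonoidClass.coe_finsetSum, AddSubmonoidClass.coe_finsetSum, map_sum]
    refine Finset.sum_congr rfl fun x _ => ?_
    change y.1 (D.f (e q) (x.1 b) • (act hU x p).1) = _
    rw [map_smul]
    rfl
  rw [h0, avg_apply]
  refine Fintype.sum_equiv (Equiv.mulLeft y⁻¹) _ _ fun x => ?_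
  have h1 : D.f (e (act hU y q)) (x.1 b) = D.f (e q) ((y⁻¹ * x : X).1 b) := by
    rw [he, ← (hX y.2).1 (e q)]
    congr 1
    exact (y.1.apply_symm_apply (x.1 b)).symm
  have h2 : act hU x p = act hU y (act hU (y⁻¹ * x) p) :=
    Subtype.ext (y.1.apply_symm_apply (x.1 p.1)).symm
  rw [h1, h2]
  rfl

/-- The trace. -/
theorem trace_avg [Module.Finite F V] (hX : X ≤ D.isom) (he : ∀ (x : X) (u : U), e (act hU x u) = x.1 (e u)) (b : V)
    (p : U) : LinearMap.trace F U (avg D hU e b p) = (Nat.card X : F) * D.f (e p) b := by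
  rw [avg, map_sum]
  have h1 : ∀ x : X, LinearMap.trace F U (((fL D (x.1 b)).comp e).smulRight (act hU x p)) = D.f (e p) b := by
    intro x
    rw [LinearMap.trace_smulRight, LinearMap.comp_apply, he, fL_apply, (hX x.2).1]
  rw [Finset.sum_congr rfl fun x _ => h1 x, Finset.sum_const, Finset.card_univ, nsmul_eq_mul, Nat.card_eq_fintype_card]

/-- The trace on the whole space. -/
theorem exists_ne [Module.Finite F V] (hX : X ≤ D.isom) (h0 : (Nat.card X : F) ≠ 0)
    (he : ∀ (x : X) (u : U), e (act hU x u) = x.1 (e u)) {w : V} {s : U} (hs : D.f (e s) w ≠ 0) :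
    ∃ v : V, ∑ x : X, D.f v (x.1 w) • act hU x s ≠ 0 := by
  by_contra hcon
  push Not at hcon
  have h1 : avg D hU e w s = 0 := by
    ext q
    rw [avg_apply, hcon (e q), LinearMap.zero_apply]
  have h2 := trace_avg hU hX he w s
  rw [h1, map_zero] at h2
  rcases mul_eq_zero.1 h2.symm with h | h
  · exact h0 h
  · exact hs h

theorem exists_pair [Module.Finite F V] (hX : X ≤ D.isom) (h0 : (Nat.card X : F) ≠ 0)
    (hirr : ∀ W ≤ U, Inv X W → W = ⊥ ∨ W = U) {e₂ e₃ : U →ₗ[F] V}
    (he₃ : ∀ (x : X) (u : U), e₃ (act hU x u) = x.1 (e₃ u)) {w b : V} {y₀ y₁ : U}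
    (h₀ : D.f (e₂ y₀) w ≠ 0) (h₁ : D.f (e₃ y₁) b ≠ 0) :
    ∃ p q : U, D.f (e₂ (∑ x : X, D.f (e₃ q) (x.1 b) • act hU x p)) w ≠ 0 := by
  by_contra hcon
  push Not at hcon
  have h2 : avg D hU e₃ b y₁ = 0 := by
    have h3 : Inv X ((LinearMap.range (avg D hU e₃ b y₁)).map U.subtype) := by
      rintro x hx _ ⟨_, ⟨q, rfl⟩, rfl⟩
      exact ⟨_, ⟨act hU ⟨x, hx⟩ q, rfl⟩, by
        rw [avg_comm hU he₃ hX]
        rfl⟩
    have h4 : (LinearMap.range (avg D hU e₃ b y₁)).map U.subtype ≤ U := by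
      rintro _ ⟨z, _, rfl⟩
      exact z.2
    rcases hirr _ h4 h3 with h | h
    · ext q
      have h5 : (avg D hU e₃ b y₁ q : V) ∈ (LinearMap.range (avg D hU e₃ b y₁)).map U.subtype := ⟨_, ⟨q, rfl⟩, rfl⟩
      rw [h, Submodule.mem_bot] at h5
      rw [h5]
      rfl
    · exfalso
      have h5 : y₀.1 ∈ (LinearMap.range (avg D hU e₃ b y₁)).map U.subtype := by
        rw [h]; exact y₀.2
      obtain ⟨z, ⟨q, hq⟩, hz⟩ := h5
      have h6 : avg D hU e₃ b y₁ q = y₀ := by
        rw [hq]; exact Subtype.ext hz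
      rw [avg_apply] at h6
      apply h₀
      rw [← h6]
      exact hcon y₁ q
  have h3 := trace_avg hU hX he₃ b y₁
  rw [h2, map_zero] at h3
  rcases mul_eq_zero.1 h3.symm with h | h
  · exact h0 h
  · exact h₁ h

end Tr

end Cfsg.Agent.H989.Sims
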