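import Cfsg.Agent.H989.Sims.Core
import Cfsg.Agent.H989.Sims.Trace

/-!
# `FormsCore` (for S3386, the Sims conjecture): the construction of the unipotent group
-/

set_option autoImplicit false

namespace Cfsg.Agent.H989.Sims

open Cfsg.Agent.H851.Sims
open scoped commutatorElement

section Tot

variable {F V : Type} [Field F] [AddCommGroup V] [Module F V] {X : Subgroup (V ≃ₗ[F] V)} {U : Submodule F V}

/-- The sum of a family of maps. -/
def tot {n : ℕ} (e : Fin n → (U →ₗ[F] V)) : (Fin n → U) →ₗ[F] V := ∑ i, (e i).comp (LinearMap.proj i)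

theorem tot_apply {n : ℕ} (e : Fin n → (U →ₗ[F] V)) (a : Fin n → U) : tot e a = ∑ i, e i (a i) := by
  rw [tot, LinearMap.sum_apply]
  rfl

theorem inv_range_tot (hU : Inv X U) {n : ℕ} {e : Fin n → (U →ₗ[F] V)}
    (he : ∀ i (x : X) (u : U), e i (act hU x u) = x.1 (e i u)) : Inv X (LinearMap.range (tot e)) := by
  rintro x hx _ ⟨a, rfl⟩
  refine ⟨fun i => act hU ⟨x, hx⟩ (a i), ?_⟩
  rw [tot_apply, tot_apply, map_sum]
  exact Finset.sum_congr rfl fun i _ => he i ⟨x, hx⟩ (a i)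

theorem finrank_range_tot [Module.Finite F V] {n : ℕ} {e : Fin n → (U →ₗ[F] V)} (h : Function.Injective (tot e)) :
    Module.finrank F (LinearMap.range (tot e)) = n * Module.finrank F U := by
  rw [LinearMap.finrank_range_of_inj h, Module.finrank_pi_fintype, Finset.sum_const, Finset.card_univ, Fintype.card_fin,
    smul_eq_mul]

theorem mem_range_tot {n : ℕ} (e : Fin n → (U →ₗ[F] V)) (i : Fin n) (u : U) : e i u ∈ LinearMap.range (tot e) := by
  classical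
  refine ⟨Pi.single i u, ?_⟩
  rw [tot_apply, Finset.sum_eq_single i]
  · rw [Pi.single_eq_same]
  · intro j _ hj
    rw [Pi.single_eq_of_ne hj, map_zero]
  · intro h
    exact absurd (Finset.mem_univ i) h

end Tot

section Main

variable {F V : Type} [Field F] [Finite F] [AddCommGroup V] [Module F V] [Module.Finite F V] {D : FormData F V}
  {X : Subgroup (V ≃ₗ[F] V)} [Fintype X]

theorem big_group (hX : X ≤ D.isom) (h0 : (Nat.card X : F) ≠ 0) {d : ℕ}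
    (hCW : ∀ W : Submodule F V, (∀ x ∈ X, ∀ w ∈ W, x w ∈ W) → d ≤ Module.finrank F W →
      ∃ v ∈ W, v ≠ 0 ∧ ∀ x ∈ X, ∀ y ∈ X, D.f (x v) (y v) = 0 ∧ D.Q (x v) = 0)
    {κ : F} (hκ : κ * D.σ κ = 1) (hf : ∀ u v, D.f u v = κ * D.σ (D.f v u)) (hσ : ∀ a, D.σ (D.σ a) = a)
    {M : Submodule F V} (hM : TS D M) {U : Submodule F V} (hU : Inv X U) (hU0 : U ≠ ⊥)
    (hirr : ∀ W ≤ U, Inv X W → W = ⊥ ∨ W = U) {k : ℕ}
    {e₁ : Fin k → (U →ₗ[F] V)} {e₂ e₃ : Fin d → (U →ₗ[F] V)}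
    (hM₁ : ∀ i u, e₁ i u ∈ M) (hM₂ : ∀ i u, e₂ i u ∈ M) (hM₃ : ∀ i u, e₃ i u ∈ M)
    (he₁ : ∀ i (x : X) (u : U), e₁ i (act hU x u) = x.1 (e₁ i u))
    (he₂ : ∀ i (x : X) (u : U), e₂ i (act hU x u) = x.1 (e₂ i u))
    (he₃ : ∀ i (x : X) (u : U), e₃ i (act hU x u) = x.1 (e₃ i u))
    (hind : ∀ a b c, tot e₁ a + tot e₂ b + tot e₃ c = 0 → a = 0 ∧ b = 0 ∧ c = 0) :
    ∃ E : Subgroup (V ≃ₗ[F] V), E ≤ ⁅D.isom, D.isom⁆ ∧ E ≤ Subgroup.centralizer (X : Set (V ≃ₗ[F] V)) ∧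
      Nonempty (Multiplicative (Fin k → F) ≃* E) := by
  classical
  have hκ0 : D.σ κ ≠ 0 := by
    intro h
    rw [h, mul_zero] at hκ
    exact zero_ne_one hκ
  have hUd : 1 ≤ Module.finrank F U := by
    rw [Nat.one_le_iff_ne_zero]
    intro h
    exact hU0 (Submodule.finrank_eq_zero.1 h)
  -- the three ranges
  set W₁ := LinearMap.range (tot e₁) with hW₁
  set W₂ := LinearMap.range (tot e₂) with hW₂
  set W₃ := LinearMap.range (tot e₃) with hW₃
  have hI₁ : Inv X W₁ := inv_range_tot hU he₁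
  have hI₂ : Inv X W₂ := inv_range_tot hU he₂
  have hI₃ : Inv X W₃ := inv_range_tot hU he₃
  have hW₁M : W₁ ≤ M := by
    rintro _ ⟨a, rfl⟩
    rw [tot_apply]
    exact M.sum_mem fun i _ => hM₁ i _
  have hW₂M : W₂ ≤ M := by
    rintro _ ⟨a, rfl⟩
    rw [tot_apply]
    exact M.sum_mem fun i _ => hM₂ i _
  have hW₃M : W₃ ≤ M := by
    rintro _ ⟨a, rfl⟩
    rw [tot_apply]
    exact M.sum_mem fun i _ => hM₃ i _
  have hinj₂ : Function.Injective (tot e₂) := by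
    rw [← LinearMap.ker_eq_bot, LinearMap.ker_eq_bot']
    intro b hb
    exact (hind 0 b 0 (by rw [map_zero, map_zero, hb, add_zero, add_zero])).2.1
  have hinj₃ : Function.Injective (tot e₃) := by
    rw [← LinearMap.ker_eq_bot, LinearMap.ker_eq_bot']
    intro c hc
    exact (hind 0 0 c (by rw [map_zero, map_zero, hc, add_zero, add_zero])).2.2
  have hd₂ : d ≤ Module.finrank F W₂ := by
    rw [hW₂, finrank_range_tot hinj₂]
    exact Nat.le_mul_of_pos_right d hUd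
  have hd₃ : d ≤ Module.finrank F W₃ := by
    rw [hW₃, finrank_range_tot hinj₃]
    exact Nat.le_mul_of_pos_right d hUd
  -- the vector `w`
  have hdisj : (W₁ ⊔ W₃) ⊓ W₂ = ⊥ := by
    rw [eq_bot_iff]
    rintro z ⟨hz1, b, hb⟩
    obtain ⟨_, ⟨a, rfl⟩, _, ⟨c, rfl⟩, hz⟩ := Submodule.mem_sup.1 hz1
    have h1 := hind a (-b) c (by
      rw [map_neg, hb, ← hz]
      abel)
    rw [← hb, neg_eq_zero.1 h1.2.1, map_zero]
    exact Submodule.zero_mem _
  obtain ⟨w, hw0, hwp, hwTS, hwi⟩ := exists_dual hX h0 hCW (inv_sup hI₁ hI₃) hI₂ hdisj hd₂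
  have hWTS : TS D (W₁ ⊔ W₃ ⊔ W₂) := hM.mono D (sup_le (sup_le hW₁M hW₃M) hW₂M)
  have hwW : orb X w ⊓ (W₁ ⊔ W₃ ⊔ W₂) = ⊥ := by
    rw [eq_bot_iff, ← hwi]
    exact inf_le_inf_left _ (hWTS.le_perp D)
  -- the vector `b`
  have hdisj' : (W₁ ⊔ W₂ ⊔ orb X w) ⊓ W₃ = ⊥ := by
    rw [eq_bot_iff]
    rintro z ⟨hz1, c, hc⟩
    obtain ⟨y, hy, o, ho, hz⟩ := Submodule.mem_sup.1 hz1
    obtain ⟨_, ⟨a, rfl⟩, _, ⟨b, rfl⟩, hy'⟩ := Submodule.mem_sup.1 hy
    have ho' : o ∈ W₁ ⊔ W₃ ⊔ W₂ := by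
      have h1 : o = (tot e₁ (-a) + tot e₃ c) + tot e₂ (-b) := by
        rw [map_neg, map_neg, hc, ← hz, ← hy']
        abel
      rw [h1]
      exact Submodule.add_mem_sup (Submodule.add_mem_sup ⟨_, rfl⟩ ⟨_, rfl⟩) ⟨_, rfl⟩
    have ho0 : o = 0 := by
      have h1 : o ∈ orb X w ⊓ (W₁ ⊔ W₃ ⊔ W₂) := ⟨ho, ho'⟩
      rw [hwW] at h1
      exact (Submodule.mem_bot _).1 h1
    have h1 := hind a b (-c) (by
      rw [map_neg, hc, ← hz, ← hy', ho0]
      abel)
    rw [← hc, neg_eq_zero.1 h1.2.2, map_zero]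
    exact Submodule.zero_mem _
  obtain ⟨b, hb0, hbp, hbTS, hbi⟩ := exists_dual hX h0 hCW (inv_sup (inv_sup hI₁ hI₂) (inv_orb w)) hI₃ hdisj' hd₃
  -- dual vectors
  obtain ⟨i₂, y₀, hy₀⟩ : ∃ i u, D.f (e₂ i u) w ≠ 0 := by
    by_contra hcon
    push Not at hcon
    apply hw0
    have h1 : w ∈ orb X w ⊓ perp D (W₁ ⊔ W₃ ⊔ W₂) := by
      refine ⟨mem_orb w, mem_perp_sup.2 ⟨hwp, ?_⟩⟩
      rw [mem_perp']
      rintro _ ⟨a, rfl⟩
      rw [tot_apply, f_sum_left]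
      exact Finset.sum_eq_zero fun i _ => hcon i _
    rw [hwi] at h1
    exact (Submodule.mem_bot _).1 h1
  obtain ⟨i₃, y₁, hy₁⟩ : ∃ i u, D.f (e₃ i u) b ≠ 0 := by
    by_contra hcon
    push Not at hcon
    apply hb0
    have h1 : b ∈ orb X b ⊓ perp D (W₁ ⊔ W₂ ⊔ orb X w ⊔ W₃) := by
      refine ⟨mem_orb b, mem_perp_sup.2 ⟨hbp, ?_⟩⟩
      rw [mem_perp']
      rintro _ ⟨a, rfl⟩
      rw [tot_apply, f_sum_left]
      exact Finset.sum_eq_zero fun i _ => hcon i _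
    rw [hbi] at h1
    exact (Submodule.mem_bot _).1 h1
  obtain ⟨p, q, hpq⟩ := exists_pair hU hX h0 hirr (he₃ i₃) hy₀ hy₁
  set s : U := ∑ x : X, D.f (e₃ i₃ q) (x.1 b) • act hU x p with hs
  obtain ⟨v₀, hv₀⟩ := exists_ne hU hX h0 (he₂ i₂) hpq
  -- the totally singular subspaces
  have hwp' := mem_perp_sup.1 hwp
  have hbp' := mem_perp_sup.1 hbp
  have hbp'' := mem_perp_sup.1 hbp'.1
  set M₁ := W₁ ⊔ W₃ ⊔ orb X w with hM₁d
  have hM₁I : ∀ x ∈ X, ∀ v ∈ M₁, x v ∈ M₁ := inv_sup (inv_sup hI₁ hI₃) (inv_orb w)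
  have hM₁TS : TS D M₁ := by
    refine (hM.mono D (sup_le hW₁M hW₃M)).sup D hwTS fun u hu z hz => ?_
    exact D.refl _ _ (orb_le (inv_perp hX (inv_sup hI₁ hI₃)) hwp hz u hu)
  set M₂ := W₁ ⊔ orb X b with hM₂d
  have hM₂I : ∀ x ∈ X, ∀ v ∈ M₂, x v ∈ M₂ := inv_sup hI₁ (inv_orb b)
  have hM₂TS : TS D M₂ := by
    refine (hM.mono D hW₁M).sup D hbTS fun u hu z hz => ?_
    exact D.refl _ _ (orb_le (inv_perp hX hI₁) hbp''.1 hz u hu)
  have hwM₁ : w ∈ M₁ := le_sup_right (a := W₁ ⊔ W₃) (mem_orb w)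
  have hbM₂ : b ∈ M₂ := le_sup_right (a := W₁) (mem_orb b)
  have hW₁M₁ : W₁ ≤ M₁ := le_sup_left.trans le_sup_left
  have hW₃M₁ : W₃ ≤ M₁ := le_sup_right.trans le_sup_left
  have hu₃ : e₃ i₃ q ∈ M₁ := hW₃M₁ (mem_range_tot e₃ i₃ q)
  -- the elements
  have hwM₂ : w ∈ perp D M₂ := by
    refine mem_perp_sup.2 ⟨hwp'.1, ?_⟩
    rw [mem_perp']
    intro z hz
    exact orb_le (inv_perp hX (inv_orb w)) hbp'.2 hz w (mem_orb w)
  -- `-σ(κ) ∑ᵢ cᵢ e₁(s)`
  let sm : (Fin k → F) →+ M₁ :=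
    { toFun c := ⟨-(D.σ κ) • tot e₁ fun i => c i • s, M₁.smul_mem _ (hW₁M₁ ⟨_, rfl⟩)⟩
      map_zero' := by
        apply Subtype.ext
        change -(D.σ κ) • tot e₁ (fun i => (0 : Fin k → F) i • s) = 0
        have h1 : (fun i => (0 : Fin k → F) i • s) = 0 := by
          funext i
          exact zero_smul F s
        rw [h1, map_zero, smul_zero]
      map_add' c c' := by
        apply Subtype.ext
        change -(D.σ κ) • tot e₁ (fun i => (c + c') i • s) =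
          -(D.σ κ) • tot e₁ (fun i => c i • s) + -(D.σ κ) • tot e₁ (fun i => c' i • s)
        have h1 : (fun i => (c + c') i • s) = (fun i => c i • s) + (fun i => c' i • s) := by
          funext i
          exact add_smul (c i) (c' i) s
        rw [h1, map_add, smul_add] }
  let Θ : Multiplicative (Fin k → F) →* (V ≃ₗ[F] V) :=
    (elHom (κ := κ) hM₁I hM₁TS hwM₁).comp (AddMonoidHom.toMultiplicative sm)
  have hΘ : ∀ c : Fin k → F, Θ (Multiplicative.ofAdd c) = el (κ := κ) hM₁I hM₁TS (sm c).2 hwM₁ := fun c => rfl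
  -- commutators
  have hcomm : ∀ c : Fin k → F, Θ (Multiplicative.ofAdd c) ∈ ⁅D.isom, D.isom⁆ := by
    intro c
    have hu₁ : tot e₁ (fun i => c i • p) ∈ M₂ := le_sup_left (b := orb X b) ⟨_, rfl⟩
    have hgw : el (κ := κ) hM₂I hM₂TS hu₁ hbM₂ w = w := by
      rw [el_apply, N_eq_zero hM₂I hu₁ hbM₂ hwM₂, add_zero]
    have hgu : el (κ := κ) hM₂I hM₂TS hu₁ hbM₂ (e₃ i₃ q) - e₃ i₃ q = (sm c).1 := by
      rw [el_apply, add_sub_cancel_left, N_apply]
      change _ = -(D.σ κ) • tot e₁ fun i => c i • s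
      have h1 : ∀ x : X, D.f (e₃ i₃ q) (x.1 (tot e₁ fun i => c i • p)) = 0 := fun x =>
        hM.1 _ (hM₃ _ _) _ (hW₁M (hI₁ x.1 x.2 _ ⟨_, rfl⟩))
      simp only [h1, zero_smul, zero_sub]
      simp only [tot_apply]
      rw [Finset.sum_neg_distrib, ← Finset.smul_sum, neg_smul]
      congr 2
      have h2 : ∀ i, e₁ i (c i • s) = ∑ x : X, D.f (e₃ i₃ q) (x.1 b) • c i • x.1 (e₁ i p) := by
        intro i
        rw [map_smul, hs, map_sum, Finset.smul_sum]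
        refine Finset.sum_congr rfl fun x _ => ?_
        rw [map_smul, he₁, smul_comm]
      rw [Finset.sum_congr rfl fun i _ => h2 i, Finset.sum_comm]
      refine Finset.sum_congr rfl fun x _ => ?_
      rw [map_sum, Finset.smul_sum]
      refine Finset.sum_congr rfl fun i _ => ?_
      rw [map_smul, map_smul]
    have hgM : el (κ := κ) hM₂I hM₂TS hu₁ hbM₂ (e₃ i₃ q) - e₃ i₃ q ∈ M₁ := by
      rw [hgu]; exact (sm c).2
    have h3 := commutator_el (κ := κ) hM₁I hM₁TS hu₃ hwM₁ (el_mem_isom hM₂I hM₂TS hu₁ hbM₂ hκ hf hσ)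
      (fun x hx v => (LinearEquiv.congr_fun (el_comm (κ := κ) hM₂I hM₂TS hu₁ hbM₂ hX hx) v).symm) hgw hgM
    have h4 : Θ (Multiplicative.ofAdd c) = el (κ := κ) hM₁I hM₁TS hgM hwM₁ := by
      rw [hΘ]
      apply LinearEquiv.ext
      intro v
      rw [el_apply, el_apply, hgu]
    rw [h4, ← h3]
    exact Subgroup.commutator_mem_commutator (el_mem_isom hM₂I hM₂TS hu₁ hbM₂ hκ hf hσ)
      (el_mem_isom hM₁I hM₁TS hu₃ hwM₁ hκ hf hσ)
  -- injectivity
  have hinj : Function.Injective Θ := by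
    rw [injective_iff_map_eq_one]
    intro c hc
    have h1 : ∀ v, N D κ X (sm c.toAdd).1 w v = 0 := by
      intro v
      have h2 : el (κ := κ) hM₁I hM₁TS (sm c.toAdd).2 hwM₁ v = v := by
        have h3 := LinearEquiv.congr_fun hc v
        exact h3
      rw [el_apply] at h2
      exact left_eq_add.1 h2.symm
    have h2 := h1 v₀
    rw [N_apply, Finset.sum_sub_distrib, sub_eq_zero] at h2
    -- the two parts
    have h3 : ∑ x : X, D.σ κ • D.f v₀ (x.1 w) • x.1 (sm c.toAdd).1 ∈ orb X w ⊓ (W₁ ⊔ W₃ ⊔ W₂) := by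
      constructor
      · rw [← h2]
        exact Submodule.sum_mem _ fun x _ => Submodule.smul_mem _ _ (mem_orb' x.2 w)
      · exact Submodule.sum_mem _ fun x _ => Submodule.smul_mem _ _ (Submodule.smul_mem _ _
          (le_sup_left (b := W₂) (le_sup_left (b := W₃) (hI₁ x.1 x.2 _ (W₁.smul_mem _ ⟨_, rfl⟩)))))
    rw [hwW, Submodule.mem_bot] at h3
    have h4 : tot e₁ (fun i => c.toAdd i • ∑ x : X, D.f v₀ (x.1 w) • act hU x s) = 0 := by
      have h5 : ∑ x : X, D.σ κ • D.f v₀ (x.1 w) • x.1 (sm c.toAdd).1 =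
          (D.σ κ * -(D.σ κ)) • tot e₁ (fun i => c.toAdd i • ∑ x : X, D.f v₀ (x.1 w) • act hU x s) := by
        change ∑ x : X, D.σ κ • D.f v₀ (x.1 w) • x.1 (-(D.σ κ) • tot e₁ fun i => c.toAdd i • s) = _
        rw [mul_smul, ← Finset.smul_sum]
        congr 1
        simp only [map_smul]
        rw [Finset.sum_congr rfl fun x _ => smul_comm (D.f v₀ (x.1 w)) (-(D.σ κ)) (x.1 (tot e₁ fun i => c.toAdd i • s)),
          ← Finset.smul_sum]
        congr 1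
        have h6 : ∀ i, e₁ i (c.toAdd i • ∑ x : X, D.f v₀ (x.1 w) • act hU x s) =
            ∑ x : X, D.f v₀ (x.1 w) • x.1 (e₁ i (c.toAdd i • s)) := by
          intro i
          rw [map_smul, map_sum, Finset.smul_sum]
          refine Finset.sum_congr rfl fun x _ => ?_
          rw [map_smul, he₁, map_smul, map_smul, smul_comm]
        simp only [tot_apply]
        rw [Finset.sum_congr rfl fun i _ => h6 i, Finset.sum_comm]
        refine Finset.sum_congr rfl fun x _ => ?_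
        rw [map_sum, Finset.smul_sum]
      rw [h5] at h3
      rcases smul_eq_zero.1 h3 with h | h
      · exfalso
        rcases mul_eq_zero.1 h with h | h
        · exact hκ0 h
        · exact hκ0 (neg_eq_zero.1 h)
      · exact h
    have h5 := (hind (fun i => c.toAdd i • ∑ x : X, D.f v₀ (x.1 w) • act hU x s) 0 0
      (by rw [h4, map_zero, map_zero, add_zero, add_zero])).1
    apply Multiplicative.toAdd.injective
    funext i
    have h6 : c.toAdd i • ∑ x : X, D.f v₀ (x.1 w) • act hU x s = 0 := congrFun h5 i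
    rcases smul_eq_zero.1 h6 with h | h
    · exact h
    · exact absurd h hv₀
  refine ⟨Θ.range, ?_, ?_, ⟨MonoidHom.ofInjective hinj⟩⟩
  · rintro _ ⟨c, rfl⟩
    exact hcomm c.toAdd
  · rintro _ ⟨c, rfl⟩
    rw [Subgroup.mem_centralizer_iff]
    intro x hx
    exact el_comm (κ := κ) hM₁I hM₁TS (sm c.toAdd).2 hwM₁ hX hx

end Main

end Cfsg.Agent.H989.Sims
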